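import Cfsg.Agent.H92.TD.Id
import Cfsg.Agent.H129.TwD4Cyc
import Cfsg.Agent.H278.Cov.Defs

/-!
# `³D₄(q)`, `q > 2`, is not the union of the conjugates of two proper subgroups (helper92, S2499)

* `card_dvd_of_cox` : a proper subgroup containing an element of order `q⁴ - q² + 1` has order dividing
  `4 (q⁴ - q² + 1)`;
* `noTwo_gt`, `noTwo_td4_gt` : `NoTwo`.
-/

set_option autoImplicit false

namespace Cfsg.Agent.H92.TD

open Cfsg Cfsg.Agent.OrdDiv Cfsg.Agent.H436 Cfsg.Agent.H902 Cfsg.Agent.H902.Names Cfsg.Agent.H915.GN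
  Cfsg.Agent.H290.ElReg Cfsg.Agent.H264.FKS Cfsg.Agent.H563.KG Cfsg.Agent.H56.Exc Cfsg.Lie Cfsg.Agent.H278.Cov

variable {p f : ℕ} {K : Type} [Field K] [Fintype K]

/-- **Subgroups containing an element of order `q⁴ - q² + 1`.** -/
theorem card_dvd_of_cox (tb : OrderTable.{0})
    (hkn : ∀ (S : Type) [Group S] [Finite S], IsSimpleGroup S → IsKnownSimple' S) (hE : CycFixSolv.{0})
    (hp : p.Prime) (hf : 1 ≤ f) (hK : Fintype.card K = (p ^ f) ^ 3) {H : Subgroup ↥(twistedD4 K (p ^ f))}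
    (hH : H ≠ ⊤) (hd : (p ^ f) ^ 4 - (p ^ f) ^ 2 + 1 ∣ Nat.card H) :
    Nat.card H ∣ 4 * ((p ^ f) ^ 4 - (p ^ f) ^ 2 + 1) := by
  have hq2 : 2 ≤ p ^ f := hp.two_le.trans (Nat.le_self_pow (by omega) p)
  have h1 := (Cfsg.Agent.H349.KD4.kfull_TD4 tb hkn hE hp hf hK H fun r hr hri => ?_).resolve_left hH
  · rwa [Cfsg.Agent.H349.KD4.m_eq hq2, Cfsg.Agent.H349.KD4.ncl12] at h1
  · obtain ⟨u, hu⟩ := hd
    have h2 := H.card_mul_index
    rw [Cfsg.Agent.H349.KD4.card_eq hp hf hK] at h2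
    have h3 : num (.td4 (p ^ f)) = ((p ^ f) ^ 4 - (p ^ f) ^ 2 + 1) * ((p ^ f) ^ 12 * (((p ^ f) ^ 2 - 1) *
        (((p ^ f) ^ 6 - 1) * ((p ^ f) ^ 4 + (p ^ f) ^ 2 + 1)))) := by
      have h4 : num (.td4 (p ^ f)) = (p ^ f) ^ 12 * (((p ^ f) ^ 2 - 1) * ((p ^ f) ^ 6 - 1) *
        ((p ^ f) ^ 8 + (p ^ f) ^ 4 + 1)) := rfl
      have h5 : (p ^ f) ^ 8 + (p ^ f) ^ 4 + 1 = ((p ^ f) ^ 4 - (p ^ f) ^ 2 + 1) * ((p ^ f) ^ 4 + (p ^ f) ^ 2 + 1) := by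
        have h6 : (p ^ f) ^ 2 ≤ (p ^ f) ^ 4 := Nat.pow_le_pow_right (by omega) (by norm_num)
        obtain ⟨d, hd⟩ := Nat.exists_eq_add_of_le h6
        have h7 : (p ^ f) ^ 4 - (p ^ f) ^ 2 = d := by omega
        rw [h7]
        have h8 : (p ^ f) ^ 8 = ((p ^ f) ^ 2 + d) * (p ^ f) ^ 4 := by rw [← hd]; ring
        have h9 : (p ^ f) ^ 4 = (p ^ f) ^ 2 * (p ^ f) ^ 2 := by ring
        nlinarith
      rw [h4, h5]
      ring
    rw [h3, hu, mul_assoc] at h2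
    have h4 := Nat.eq_of_mul_eq_mul_left (by omega) h2
    have h5 : r ∣ (p ^ f) ^ 12 * (((p ^ f) ^ 2 - 1) * (((p ^ f) ^ 6 - 1) * ((p ^ f) ^ 4 + (p ^ f) ^ 2 + 1))) := by
      rw [← h4]; exact Dvd.dvd.mul_left hri u
    rcases hr.prime.dvd_mul.1 h5 with h6 | h6
    · exact hr.not_dvd_pow _ h6
    rcases hr.prime.dvd_mul.1 h6 with h6 | h6
    · exact absurd ((hr.dvd_iff _).1 h6) (by norm_num)
    rcases hr.prime.dvd_mul.1 h6 with h6 | h6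
    · exact absurd ((hr.dvd_iff _).1 h6) (by norm_num)
    have h7 : (p ^ f) ^ 6 - 1 = ((p ^ f) ^ 2 - 1) * ((p ^ f) ^ 4 + (p ^ f) ^ 2 + 1) := by
      have h8 : 1 ≤ (p ^ f) ^ 2 := Nat.one_le_pow _ _ (by omega)
      obtain ⟨d, hd⟩ : ∃ d, (p ^ f) ^ 2 = d + 1 := ⟨(p ^ f) ^ 2 - 1, by omega⟩
      have h9 : (p ^ f) ^ 6 = ((p ^ f) ^ 2) ^ 3 := by ring
      have h10 : (p ^ f) ^ 4 = ((p ^ f) ^ 2) ^ 2 := by ring
      rw [h9, h10, hd, Nat.add_sub_cancel]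
      apply Nat.sub_eq_of_eq_add
      ring
    have h8 : r ∣ (p ^ f) ^ 6 - 1 := by rw [h7]; exact Dvd.dvd.mul_left h6 _
    exact absurd ((hr.dvd_iff _).1 h8) (by norm_num)

/-- **`³D₄(q)`, `q > 2`.** -/
theorem noTwo_gt (tb : OrderTable.{0})
    (hkn : ∀ (S : Type) [Group S] [Finite S], IsSimpleGroup S → IsKnownSimple' S) (hE : CycFixSolv.{0})
    (hN : NilFix) (hG : Gross) (hp : p.Prime) (hf : 1 ≤ f) (h2 : 2 < p ^ f) (hK : Fintype.card K = (p ^ f) ^ 3) :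
    NoTwo ↥(twistedD4 K (p ^ f)) := by
  have hq : IsPrimePow (p ^ f) := hp.isPrimePow.pow (by omega)
  have hq1 : 1 ≤ p ^ f := by omega
  obtain ⟨C, hCc, hCcard, -⟩ := Cfsg.Agent.H129.TwD4Cyc.coxeter_torus hq hK
  obtain ⟨x, hx⟩ := IsCyclic.exists_ofOrder_eq_natCard (α := C)
  have hxo : orderOf (x : ↥(twistedD4 K (p ^ f))) = (p ^ f) ^ 4 - (p ^ f) ^ 2 + 1 := by
    rw [Subgroup.orderOf_coe, hx, hCcard]
  have key : ∀ H Y : Subgroup ↥(twistedD4 K (p ^ f)), H ≠ ⊤ → Y ≠ ⊤ → ¬ Av (x : ↥(twistedD4 K (p ^ f))) H →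
      ∃ z : ↥(twistedD4 K (p ^ f)), Av z H ∧ Av z Y := by
    intro H Y hH hY hAv
    obtain ⟨g, hg⟩ := not_av hAv
    have h3 : (p ^ f) ^ 4 - (p ^ f) ^ 2 + 1 ∣ Nat.card H := by
      have h4 : orderOf (g * x * g⁻¹ : ↥(twistedD4 K (p ^ f))) = (p ^ f) ^ 4 - (p ^ f) ^ 2 + 1 := by
        rw [← hxo]
        exact orderOf_injective (MulAut.conj g).toMonoidHom (MulAut.conj g).injective _
      rw [← h4, ← Subgroup.orderOf_mk _ hg]
      exact orderOf_dvd_natCard _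
    have h4 := card_dvd_of_cox tb hkn hE hp hf hK hH h3
    by_contra hcon
    push Not at hcon
    apply hY
    refine eq_top_of_meets tb hkn hN hG hp hf h2 hK fun r hr hr3 hrN y hy => ?_
    obtain ⟨b, hb, hyb⟩ := hy
    refine not_av (hcon y (av_of_card fun hcard => ?_))
    have h5 : r ∣ 4 * ((p ^ f) ^ 4 - (p ^ f) ^ 2 + 1) := by
      refine dvd_trans ?_ (hcard.trans h4)
      rw [hyb]
      exact dvd_pow_self r (by omega)
    have h6 : ¬ r ∣ 4 := by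
      intro h6
      have h7 : r ∣ 2 ^ 2 := h6
      have h8 := (Nat.prime_dvd_prime_iff_eq hr Nat.prime_two).1 (hr.dvd_of_dvd_pow h7)
      have h9 : Odd r := hrN.elim odd_three (odd_six hq1)
      rw [h8] at h9
      exact absurd h9 (by decide)
    have h7 := (hr.dvd_mul.1 h5).resolve_left h6
    rcases hrN with h8 | h8
    · exact not_dvd_twelve hr hq1 h8 h7
    · exact not_dvd_twelve' hr hq1 h8 h7
  intro H Y hH hY
  by_cases h3 : Av (x : ↥(twistedD4 K (p ^ f))) H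
  · by_cases h4 : Av (x : ↥(twistedD4 K (p ^ f))) Y
    · exact ⟨x, h3, h4⟩
    · obtain ⟨z, hz1, hz2⟩ := key Y H hY hH h4
      exact ⟨z, hz2, hz1⟩
  · exact key H Y hH hY h3

/-- **`³D₄(q)`, `q > 2`**, named form. -/
theorem noTwo_td4_gt (tb : OrderTable.{0})
    (hkn : ∀ (S : Type) [Group S] [Finite S], IsSimpleGroup S → IsKnownSimple' S) (hE : CycFixSolv.{0})
    (hN : NilFix) (hG : Gross) {T : Type} [Group T] {q : ℕ} (h2 : 2 < q) (hT : IsNamed (.td4 q) T) : NoTwo T := by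
  obtain ⟨K, _, _, hK, ⟨e⟩⟩ := hT.real
  have hq : IsPrimePow q := hT.cond
  obtain ⟨p, f, hp, hf, rfl⟩ := (isPrimePow_nat_iff _).1 hq
  exact (noTwo_gt (K := K) tb hkn hE hN hG hp hf h2 hK).congr e.symm

end Cfsg.Agent.H92.TD
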