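import Cfsg.Agent.H92.TD.Inst
import Cfsg.Agent.H92.TD.IdNum
import Cfsg.Agent.H92.TD.Top
import Cfsg.Agent.H349.KD4.Zs

/-!
# Identification of the simple group (helper92, S2499)

* `spor_elim`, `charp_elim` : sporadic groups, equal characteristic;
* `identT` : the simple group is `³D₄(q)`, `q > 2`;
* `eq_top_of_meets` : a subgroup of `³D₄(q)`, `q > 2`, meeting the classes of all `r`-elements, `r ∣ q² ± q + 1`,
  `r ≠ 3`, is `⊤`.
-/

set_option autoImplicit false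

namespace Cfsg.Agent.H92.TD

open Cfsg Cfsg.Agent.OrdDiv Cfsg.Agent.H436 Cfsg.Agent.H902 Cfsg.Agent.H902.Names Cfsg.Agent.H915.GN
  Cfsg.Agent.H290.ElReg Cfsg.Agent.H264.FKS Cfsg.Agent.H563.KG Cfsg.Agent.H56.Exc Cfsg.Lie

section Num

variable {q : ℕ}

theorem exists_r3 (hq : 2 ≤ q) : ∃ r, r.Prime ∧ r ≠ 3 ∧ r ∣ q ^ 2 + q + 1 :=
  exists_ne_three (nine_not_dvd q) (by nlinarith)

theorem exists_r6 (hq : 2 < q) : ∃ r, r.Prime ∧ r ≠ 3 ∧ r ∣ q ^ 2 - q + 1 := by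
  rw [six_shape (by omega)]
  refine exists_ne_three (nine_not_dvd _) ?_
  obtain ⟨c, rfl⟩ : ∃ c, q = c + 3 := ⟨q - 3, by omega⟩
  have : c + 3 - 1 = c + 2 := rfl
  rw [this]
  nlinarith

theorem exists_exp {N r : ℕ} (hN : N ≠ 0) (hr : r.Prime) (h : r ∣ N) :
    ∃ a, 1 ≤ a ∧ r ^ a ∣ N ∧ ¬ r ^ (a + 1) ∣ N := by
  obtain ⟨a, n', hn, he⟩ := Nat.exists_eq_pow_mul_and_not_dvd hN r hr.one_lt.ne'
  refine ⟨a, ?_, Dvd.intro _ he.symm, fun h1 => hn ?_⟩
  · by_contra h0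
    obtain rfl : a = 0 := by omega
    rw [pow_zero, one_mul] at he
    exact hn (he ▸ h)
  · rw [he, pow_succ] at h1
    exact Nat.dvd_of_mul_dvd_mul_left (pow_pos hr.pos a) h1

/-- **Sporadic groups.** -/
theorem spor_elim (hq : 2 < q) {x : Cfsg.Agent.OrdDiv.Grp × ℕ} (hx : x ∈ Cfsg.Agent.OrdDiv.spor)
    (h3 : Pw (q ^ 2 + q + 1) x.2) (h6 : Pw (q ^ 2 - q + 1) x.2) (hd : x.2 ∣ OL .TD4 q) : False := by
  have hq1 : 1 ≤ q := by omega
  obtain ⟨r, hr, hr3, hrN⟩ := exists_r3 (q := q) (by omega)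
  obtain ⟨s, hs, hs3, hsN⟩ := exists_r6 hq
  have hsN' := hsN
  rw [six_shape hq1] at hsN' h6
  have h1 := spor_cases hx hr (seven_of hr hr3 hrN) (mod_six hr hr3 hrN) (h3 r 1 hr hr3 le_rfl (by rwa [pow_one]))
  have h2 := spor_cases hx hs (seven_of hs hs3 hsN') (mod_six hs hs3 hsN') (h6 s 1 hs hs3 le_rfl (by rwa [pow_one]))
  have hOL : OL .TD4 q ≠ 0 := by
    intro h0
    have h5 : OL .TD4 q = q ^ 12 * ((q ^ 2 - 1) * (q ^ 6 - 1) * (q ^ 8 + q ^ 4 + 1)) := rfl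
    rw [h5] at h0
    have h6 : 1 < q ^ 2 := Nat.one_lt_pow (by norm_num) (by omega)
    have h7 : 1 < q ^ 6 := Nat.one_lt_pow (by norm_num) (by omega)
    have h8 : 0 < q ^ 12 * ((q ^ 2 - 1) * (q ^ 6 - 1) * (q ^ 8 + q ^ 4 + 1)) :=
      Nat.mul_pos (Nat.pow_pos (by omega)) (Nat.mul_pos (Nat.mul_pos (by omega) (by omega)) (by omega))
    omega
  have key : ∀ {Q : ℕ}, Q ^ 2 + Q + 1 ∣ 507 → Q ≤ 22 := by
    intro Q hQ
    have := Nat.le_of_dvd (by norm_num) hQ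
    nlinarith
  have hend : x.2 = mo → q ≤ 23 → False := by
    intro hm hq23
    have h4 := Nat.le_of_dvd (Nat.pos_of_ne_zero hOL) hd
    have h5 := small_td4 hq23
    omega
  have hne : r ≠ s := fun h => cop_aux hr hq1 hrN (h ▸ hsN)
  rcases h1 with h1 | ⟨h1, hm⟩
  · rcases h2 with h2 | ⟨h2, hm⟩
    · exact hne (h1.trans h2.symm)
    · refine hend hm ?_
      have h7 : ¬ 7 ∣ (q - 1) ^ 2 + (q - 1) + 1 := by
        intro h7
        rw [← six_shape hq1] at h7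
        subst h1
        exact cop_aux hr hq1 hrN h7
      have := key (dvd_507 hx hm h6 h7)
      omega
  · rcases h2 with h2 | ⟨h2, -⟩
    · refine hend hm ?_
      have h7 : ¬ 7 ∣ q ^ 2 + q + 1 := by
        intro h7
        subst h2
        exact cop_aux hs hq1 h7 hsN
      have := key (dvd_507 hx hm h3 h7)
      omega
    · exact hne (h1.trans h2.symm)

end Num

/-- **Equal characteristic.** -/
theorem charp_elim {p f c : ℕ} {g : Grp} (hp : p.Prime) (hf : 1 ≤ f) (h2 : 2 < p ^ f) (hg : Cond g)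
    (hch : HasChar p g) (hc : den g * c = num g) (hd : c ∣ num (.td4 (p ^ f)))
    (h6 : Pw ((p ^ f) ^ 2 - p ^ f + 1) c) : g = .td4 (p ^ f) := by
  obtain ⟨f₁, hf₁, hfl, hK, hY⟩ := kd_all hp hg hch hc
  have hq1 : 1 ≤ p ^ f := by omega
  have hne : ¬ (p = 2 ∧ f * 6 ≤ 6) := by
    rintro ⟨rfl, h⟩
    obtain rfl : f = 1 := by omega
    norm_num at h2
  obtain ⟨s, hs⟩ := exists_prim (q := p) (e := f * 6) hp.two_le (by omega) (fun h => hne ⟨h.1, h.2.le⟩)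
  have e3 : (p ^ f) ^ 3 + 1 = ((p ^ f) ^ 2 - p ^ f + 1) * (p ^ f + 1) := by
    have e8 : (p ^ f) ^ 2 - p ^ f = p ^ f * (p ^ f - 1) := by rw [Nat.mul_sub, mul_one, pow_two]
    obtain ⟨d, hd⟩ : ∃ d, p ^ f = d + 1 := ⟨p ^ f - 1, by omega⟩
    rw [e8, hd, Nat.add_sub_cancel]
    ring
  have e6 : p ^ (f * 6) - 1 = ((p ^ f) ^ 3 - 1) * (p ^ f + 1) * ((p ^ f) ^ 2 - p ^ f + 1) := by
    have h1 : p ^ (f * 6) - 1 = ((p ^ f) ^ 3 - 1) * ((p ^ f) ^ 3 + 1) := by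
      have h3 : 1 ≤ (p ^ f) ^ 3 := Nat.one_le_pow _ _ hq1
      obtain ⟨d, hd⟩ : ∃ d, (p ^ f) ^ 3 = d + 1 := ⟨(p ^ f) ^ 3 - 1, by omega⟩
      have h4 : p ^ (f * 6) = ((p ^ f) ^ 3) ^ 2 := by rw [← pow_mul, ← pow_mul]
      rw [h4, hd, Nat.add_sub_cancel]
      apply Nat.sub_eq_of_eq_add
      ring
    rw [h1, e3]
    ring
  have hs3' : ¬ s ∣ (p ^ f) ^ 3 - 1 := by
    rw [← pow_mul, hs.dvd_iff]
    intro h
    have := Nat.le_of_dvd (by omega) h
    omega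
  have hs2' : ¬ s ∣ p ^ f + 1 := by
    intro h
    have h3 : s ∣ (p ^ f) ^ 2 - 1 := by
      have h4 : (p ^ f) ^ 2 - 1 = (p ^ f + 1) * (p ^ f - 1) := by
        obtain ⟨d, hd⟩ : ∃ d, p ^ f = d + 1 := ⟨p ^ f - 1, by omega⟩
        rw [hd, Nat.add_sub_cancel]
        apply Nat.sub_eq_of_eq_add
        ring
      rw [h4]
      exact Dvd.dvd.mul_right h _
    rw [← pow_mul, hs.dvd_iff] at h3
    have := Nat.le_of_dvd (by omega) h3
    omega
  have htop : ∀ k, s ^ k ∣ p ^ (f * 6) - 1 → s ^ k ∣ (p ^ f) ^ 2 - p ^ f + 1 := by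
    intro k hk
    rw [e6] at hk
    refine top_aux hs.prime hk fun h => ?_
    rcases hs.prime.dvd_mul.1 h with h | h
    · exact hs3' h
    · exact hs2' h
  have hsN : s ∣ (p ^ f) ^ 2 - p ^ f + 1 := by
    have := htop 1 (by rw [pow_one]; exact hs.dvd dvd_rfl)
    rwa [pow_one] at this
  have hsmod : f * 6 ∣ s - 1 := Nat.dvd_of_mod_eq_zero (mod_of_prim hp.two_le (by omega) hs)
  have hs3 : s ≠ 3 := by
    rintro rfl
    have := Nat.le_of_dvd (by norm_num) hsmod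
    omega
  obtain ⟨b, hb1, hbN, hbn⟩ := exists_exp (by omega) hs.prime hsN
  have h1 : s ^ (b + 1) ∣ c := h6 s b hs.prime hs3 hb1 hbN
  obtain ⟨i, hi, hdi⟩ := hK.exp hs ((dvd_pow_self s (by omega)).trans h1)
  have hiM := hK.le hi
  have hM : f * 6 ≤ f₁ * Mg g :=
    (Nat.le_of_dvd (Nat.mul_pos (by omega) (by omega)) hdi).trans (Nat.mul_le_mul_left _ hiM.2)
  obtain ⟨t, ht⟩ := exists_prim (q := p) (e := f₁ * Mg g) hp.two_le (by omega) (fun h => hne ⟨h.1, by omega⟩)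
  have htc : t ∣ c := hK.has hY (by omega) ht
  obtain ⟨j, hj, hdj⟩ := (Cfsg.Agent.H325.Same.td_td4 hp hf hd).exp ht htc
  have hj' : j = 2 ∨ j = 6 ∨ j = 12 := by
    have : j ∈ [2, 6, 12] := hj
    simpa using this
  have hle : f₁ * Mg g ≤ f * j := Nat.le_of_dvd (Nat.mul_pos (by omega) (by omega)) hdj
  have hcases : f₁ * Mg g = f * 6 ∨ f₁ * Mg g = f * 12 := by
    rcases hj' with rfl | rfl | rfl
    · omega
    · left; omega
    · obtain ⟨m, hm⟩ := hdj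
      have hm2 : m ≤ 2 := by
        by_contra hcon
        have h3 : f₁ * Mg g * 3 ≤ f₁ * Mg g * m := Nat.mul_le_mul_left _ (by omega)
        omega
      interval_cases m <;> omega
  rcases hcases with h3 | h3
  · exfalso
    have h4 := top_all hp hg hch hc hf₁ hfl (by rw [h3]; exact hs) h1
    rw [h3] at h4
    exact hbn (htop _ h4)
  · exact Cfsg.Agent.H349.KD4.charp_td4z hp hf hg hch hc hd fun u hu => hK.has hY (by omega) (by rw [h3]; exact hu)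

variable {p f : ℕ}

/-- **The identification of the simple group.** -/
theorem identT (tb : OrderTable.{0}) (hp : p.Prime) (hf : 1 ≤ f) (h2 : 2 < p ^ f) {F : Type} [Field F] [CharP F p]
    {S : Type} [Group S] [Finite S] [IsSimpleGroup S] (hna : ¬ IsMulCommutative S) (hK : IsKnownSimple' S)
    (hrep : Fth 8 F S) (h3 : Pw ((p ^ f) ^ 2 + p ^ f + 1) (Nat.card S))
    (h6 : Pw ((p ^ f) ^ 2 - p ^ f + 1) (Nat.card S))
    (hno : ∀ r s, r.Prime → s.Prime → r ≠ 3 → s ≠ 3 → r ∣ (p ^ f) ^ 2 + p ^ f + 1 → s ∣ (p ^ f) ^ 2 - p ^ f + 1 →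
      ∀ x y : S, orderOf x = r → orderOf y = s → ¬ Commute x y)
    (hd : Nat.card S ∣ num (.td4 (p ^ f))) : Nat.card S = num (.td4 (p ^ f)) := by
  have hna' : ¬ ∀ a b : S, a * b = b * a := fun h => hna ⟨⟨h⟩⟩
  have hq1 : 1 ≤ p ^ f := by omega
  obtain ⟨r, hr, hr3, hrN⟩ := exists_r3 (q := p ^ f) (by omega)
  obtain ⟨s, hs, hs3, hsN⟩ := exists_r6 h2
  have hrS : r ^ 2 ∣ Nat.card S := h3 r 1 hr hr3 le_rfl (by rwa [pow_one])
  have hsS : s ^ 2 ∣ Nat.card S := h6 s 1 hs hs3 le_rfl (by rwa [pow_one])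
  obtain ⟨g, hgS⟩ := exists_named tb hK hna'
  rcases Cfsg.Agent.H192.Singer.cases_name hgS.cond with ⟨m, rfl⟩ | hsp | ⟨l, hl, hch⟩
  · exfalso
    obtain ⟨Φ⟩ : Nonempty (S ≃* alternatingGroup (Fin m)) := hgS.real
    exact alt_elim hr hs (odd_three hrN) (odd_six hq1 hsN) (fun h => cop_aux hr hq1 hrN (h ▸ hsN)) hrS hsS
      (hno r s hr hs hr3 hs3 hrN hsN) Φ
  · exfalso
    have h1 := Cfsg.Agent.H192.Singer.spor_mem hsp
    have h4 : Nat.card S = ordN g := hgS.ord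
    exact spor_elim h2 h1 (by rw [← h4]; exact h3) (by rw [← h4]; exact h6) (by rw [← h4]; exact hd)
  · by_cases hpl : p = l
    · subst hpl
      have h1 := charp_elim hp hf h2 hgS.cond hch hgS.eq hd h6
      subst h1
      have h4 := hgS.eq
      rw [show den (.td4 (p ^ f)) = 1 from rfl, one_mul] at h4
      exact h4
    · exfalso
      obtain ⟨X, f₁, h1, h4, -⟩ := exists_lie hl hgS hch
      have hlF : (l : F) ≠ 0 := by
        intro h
        exact hpl ((Nat.prime_dvd_prime_iff_eq hp hl).1 ((CharP.cast_eq_zero_iff F p l).1 h))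
      have h5 := lb_le hna' (by norm_num) hrep h1 hgS.real h4 hlF
      exact cross_elim h4 h5 hr (seven_of hr hr3 hrN) (mod_six hr hr3 hrN) hrS

variable {K : Type} [Field K] [Fintype K]

/-- **Subgroups meeting the classes of `r`-elements.** -/
theorem eq_top_of_meets (tb : OrderTable.{0})
    (hkn : ∀ (S : Type) [Group S] [Finite S], IsSimpleGroup S → IsKnownSimple' S) (hN : NilFix) (hG : Gross)
    (hp : p.Prime) (hf : 1 ≤ f) (h2 : 2 < p ^ f) (hK : Fintype.card K = (p ^ f) ^ 3)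
    {Y : Subgroup ↥(twistedD4 K (p ^ f))}
    (hY : ∀ r, r.Prime → r ≠ 3 → (r ∣ (p ^ f) ^ 2 + p ^ f + 1 ∨ r ∣ (p ^ f) ^ 2 - p ^ f + 1) → Meets Y r) : Y = ⊤ := by
  have hq : IsPrimePow (p ^ f) := hp.isPrimePow.pow (by omega)
  have hpq : p ∣ p ^ f := dvd_pow_self p (by omega)
  have hq1 : 1 ≤ p ^ f := by omega
  have : Fact p.Prime := ⟨hp⟩
  have : CharP K p := charP_of_pow (a := f * 3) hp (by rw [hK, ← pow_mul])
  obtain ⟨r, hr, hr3, hrN⟩ := exists_r3 (q := p ^ f) (by omega)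
  obtain ⟨s, hs, hs3, hsN⟩ := exists_r6 h2
  obtain ⟨a, ha, haN, haN'⟩ := exists_exp (by omega) hr hrN
  obtain ⟨b, hb, hbN, hbN'⟩ := exists_exp (by omega) hs hsN
  have hYr := hY r hr hr3 (Or.inl hrN)
  have hYs := hY s hs hs3 (Or.inr hsN)
  have hT := two_td hq hK hp hpq hr hr3 ha haN hs hs3 hb hbN
  obtain ⟨S, hSn, hSs, hSna, hall⟩ := exists_socK hN hG hT hYr hYs
    (no_solv hq hK hr hr3 ha haN haN' hs hs3 hb hbN hYr hYs)
  obtain ⟨ψ, hψ⟩ := Cfsg.Agent.H392.TD.exists_nat hq hK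
  let τ : ↥(twistedD4 K (p ^ f)) →* Matrix.GeneralLinearGroup (Fin 4 ⊕ Fin 4) K :=
    (isometryGroup K (quadFormPlus 4 K)).subtype.comp ψ
  have hτ : Function.Injective τ := (Subgroup.subtype_injective _).comp hψ
  have hrep : Fth 8 K S := by
    have h1 : Function.Injective ((τ.comp Y.subtype).comp S.subtype) :=
      (hτ.comp Y.subtype_injective).comp S.subtype_injective
    exact Fth.of h1
  have hcard := Cfsg.Agent.H349.KD4.card_eq hp hf hK
  have hSY : Nat.card S ∣ Nat.card Y := Subgroup.card_subgroup_dvd_card S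
  have hYG : Nat.card Y ∣ Nat.card ↥(twistedD4 K (p ^ f)) := Subgroup.card_subgroup_dvd_card Y
  have hcS := identT tb hp hf h2 (F := K) hSna (hkn S hSs) hrep
    (fun t k ht ht3 hk hkN => hall t _ k (cf3 hq hK hp hpq ht ht3 hk hkN)
      (hY t ht ht3 (Or.inl ((dvd_pow_self t (by omega)).trans hkN))))
    (fun t k ht ht3 hk hkN => hall t _ k (cf6 hq hK hp hpq ht ht3 hk hkN)
      (hY t ht ht3 (Or.inr ((dvd_pow_self t (by omega)).trans hkN))))
    (fun t u ht hu ht3 hu3 htN huN x y hx hy hc => nonadj hq hK ht hu ht3 hu3 htN huN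
      (x := ((x : Y) : ↥(twistedD4 K (p ^ f)))) (y := ((y : Y) : ↥(twistedD4 K (p ^ f))))
      (by rw [Subgroup.orderOf_coe, Subgroup.orderOf_coe, hx])
      (by rw [Subgroup.orderOf_coe, Subgroup.orderOf_coe, hy]) ((hc.map S.subtype).map Y.subtype))
    (by rw [← hcard]; exact hSY.trans hYG)
  apply Subgroup.eq_top_of_card_eq
  apply Nat.dvd_antisymm hYG
  rw [hcard, ← hcS]
  exact hSY

end Cfsg.Agent.H92.TD
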