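import Cfsg.Agent.H92.TD.IdNum
import Cfsg.Agent.H92.TD.Top
import Cfsg.Agent.H349.KD4.Zs

/-!
# Identification of the simple group, `q = 2` (helper92, S2499)

`ident_two` : a simple group of degree 8 in characteristic 2, whose order divides `|³D₄(2)|` and is divisible by 49,
has the order of `³D₄(2)`.
-/

set_option autoImplicit false

namespace Cfsg.Agent.H92.TD

open Cfsg Cfsg.Agent.OrdDiv Cfsg.Agent.H436 Cfsg.Agent.H902 Cfsg.Agent.H902.Names Cfsg.Agent.H915.GN
  Cfsg.Agent.H290.ElReg Cfsg.Agent.H264.FKS Cfsg.Agent.H563.KG Cfsg.Agent.H56.Exc Cfsg.Lie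

theorem num_two : num (.td4 2) = 211341312 := by decide +kernel

def sp49 : Bool := Cfsg.Agent.OrdDiv.spor.all fun x => !(x.2 % 49 == 0 && 211341312 % x.2 == 0)

theorem sp49_true : sp49 = true := by decide +kernel

theorem prim37 : Prim 2 3 7 := by
  refine ⟨by norm_num, fun m => ?_, by norm_num⟩
  constructor
  · intro h
    have h1 : 1 ≤ 2 ^ m := Nat.one_le_two_pow
    have h2 : 2 ^ m % 7 = 1 := by omega
    by_contra h3
    have h4 : 2 ^ m = (2 ^ 3) ^ (m / 3) * 2 ^ (m % 3) := by rw [← pow_mul, ← pow_add, Nat.div_add_mod]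
    have h5 : 2 ^ m % 7 = 2 ^ (m % 3) % 7 := by
      rw [h4, Nat.mul_mod, Nat.pow_mod (2 ^ 3)]
      norm_num
    have h6 : m % 3 = 1 ∨ m % 3 = 2 := by omega
    rcases h6 with h6 | h6 <;> rw [h5, h6] at h2 <;> norm_num at h2
  · rintro ⟨j, rfl⟩
    rw [pow_mul]
    exact Nat.sub_one_dvd_pow_sub_one (2 ^ 3) j

theorem kill49 {a b c : ℕ} (hc : a * c = b) (h49 : 49 ∣ c) (hb : ¬ 49 ∣ b) : False :=
  hb (hc ▸ h49.mul_left a)

/-- the names with `f₁ M ∈ {4, 6}` -/
theorem small_names {f₁ c : ℕ} {g : Grp} (hg : Cond g) (hch : HasChar 2 g) (hf₁ : 1 ≤ f₁) (hfl : fld g = 2 ^ f₁)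
    (hc : den g * c = num g) (hd : c ∣ 211341312) (h49 : 49 ∣ c) (h : f₁ * Mg g = 4 ∨ f₁ * Mg g = 6) : False := by
  have hf6 : ∀ {x : ℕ}, f₁ * x = 4 ∨ f₁ * x = 6 → f₁ ≤ 6 := by
    intro x hx
    have h0 : x ≠ 0 := by rintro rfl; omega
    have : f₁ * 1 ≤ f₁ * x := Nat.mul_le_mul_left _ (by omega)
    omega
  cases g
  case psl m q =>
    obtain rfl : q = 2 ^ f₁ := hfl
    obtain ⟨hm, hm2, -⟩ := hg
    have h1 : f₁ * m = 4 ∨ f₁ * m = 6 := h
    have h2 := hf6 h1
    interval_cases f₁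
    · have h3 : m = 4 ∨ m = 6 := by omega
      rcases h3 with rfl | rfl
      · exact kill49 hc h49 (by decide +kernel)
      · have h4 : den (.psl 6 (2 ^ 1)) = 1 := by decide +kernel
        have h5 : num (.psl 6 (2 ^ 1)) = 20158709760 := by decide +kernel
        rw [h4, h5, one_mul] at hc
        rw [hc] at hd
        exact absurd hd (by decide)
    · have h3 : m = 2 ∨ m = 3 := by omega
      rcases h3 with rfl | rfl
      · exact kill49 hc h49 (by decide +kernel)
      · exact kill49 hc h49 (by decide +kernel)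
    · have h3 : m = 2 := by omega
      subst h3
      have h4 : den (.psl 2 (2 ^ 3)) = 7 := by decide +kernel
      have h5 : num (.psl 2 (2 ^ 3)) = 3528 := by decide +kernel
      rw [h4, h5] at hc
      omega
    · omega
    · omega
    · omega
  case psp m q =>
    obtain rfl : q = 2 ^ f₁ := hfl
    obtain ⟨hm, hm2, -⟩ := hg
    have h1 : f₁ * (2 * m) = 4 ∨ f₁ * (2 * m) = 6 := h
    have h2 := hf6 h1
    interval_cases f₁
    · have h3 : m = 2 ∨ m = 3 := by omega
      rcases h3 with rfl | rfl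
      · exact absurd (hm2 rfl) (by norm_num)
      · exact kill49 hc h49 (by decide +kernel)
    all_goals omega
  case psu m q =>
    obtain rfl : q = 2 ^ f₁ := hfl
    obtain ⟨hm, hm2, -⟩ := hg
    have h1 : f₁ * (2 * (if m % 2 = 0 then m - 1 else m)) = 4 ∨ f₁ * (2 * (if m % 2 = 0 then m - 1 else m)) = 6 := h
    have h2 := hf6 h1
    interval_cases f₁
    · have h3 : m = 3 ∨ m = 4 := by split_ifs at h1 <;> omega
      rcases h3 with rfl | rfl
      · exact hm2 ⟨rfl, rfl⟩
      · exact kill49 hc h49 (by decide +kernel)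
    all_goals (split_ifs at h1 <;> omega)
  case oodd m q =>
    obtain rfl : q = 2 ^ f₁ := hfl
    obtain ⟨-, hodd, -⟩ := hg
    have h1 : Even (2 ^ f₁) := (Nat.even_pow' (by omega)).2 even_two
    exact absurd hodd (Nat.not_odd_iff_even.2 h1)
  case oplus m q =>
    obtain rfl : q = 2 ^ f₁ := hfl
    obtain ⟨hm, -⟩ := hg
    have h1 : f₁ * (2 * (m - 1)) = 4 ∨ f₁ * (2 * (m - 1)) = 6 := h
    have h2 := hf6 h1
    interval_cases f₁
    · have h3 : m = 4 := by omega
      subst h3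
      exact kill49 hc h49 (by decide +kernel)
    all_goals omega
  case ominus m q =>
    obtain rfl : q = 2 ^ f₁ := hfl
    obtain ⟨hm, -⟩ := hg
    have h1 : f₁ * (2 * m) = 4 ∨ f₁ * (2 * m) = 6 := h
    have h2 := hf6 h1
    interval_cases f₁ <;> omega
  case g2 q =>
    obtain rfl : q = 2 ^ f₁ := hfl
    have h1 : f₁ * 6 = 4 ∨ f₁ * 6 = 6 := h
    have h2 : f₁ = 1 := by omega
    subst h2
    exact absurd hg.1 (by norm_num)
  case f4 q => have h1 : f₁ * 12 = 4 ∨ f₁ * 12 = 6 := h; omega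
  case e6 q => have h1 : f₁ * 12 = 4 ∨ f₁ * 12 = 6 := h; omega
  case e7 q => have h1 : f₁ * 18 = 4 ∨ f₁ * 18 = 6 := h; omega
  case e8 q => have h1 : f₁ * 30 = 4 ∨ f₁ * 30 = 6 := h; omega
  case te6 q => have h1 : f₁ * 18 = 4 ∨ f₁ * 18 = 6 := h; omega
  case td4 q => have h1 : f₁ * 12 = 4 ∨ f₁ * 12 = 6 := h; omega
  case tf4 q => have h1 : f₁ * 12 = 4 ∨ f₁ * 12 = 6 := h; omega
  case sz q =>
    obtain rfl : q = 2 ^ f₁ := hfl
    have h1 : f₁ * 4 = 4 ∨ f₁ * 4 = 6 := h
    have h2 : f₁ = 1 := by omega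
    subst h2
    obtain ⟨m, hm, hq⟩ := hg
    have h3 := Nat.pow_right_injective (le_refl 2) hq
    have h4 : 1 = 2 * m + 1 := h3
    omega
  case ree q =>
    obtain rfl : q = 2 ^ f₁ := hfl
    obtain ⟨m, hm, hq⟩ := hg
    have h1 : Even (2 ^ f₁) := (Nat.even_pow' (by omega)).2 even_two
    rw [hq] at h1
    have h2 : Odd (3 ^ (2 * m + 1)) := Odd.pow (by decide)
    exact absurd h2 (Nat.not_odd_iff_even.2 h1)
  all_goals exact absurd hch not_false

/-- **Characteristic 2.** -/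
theorem charp_two {c : ℕ} {g : Grp} (hg : Cond g) (hch : HasChar 2 g) (hc : den g * c = num g)
    (hd : c ∣ num (.td4 2)) (h49 : 49 ∣ c) : g = .td4 2 := by
  have hp : Nat.Prime 2 := Nat.prime_two
  obtain ⟨f₁, hf₁, hfl, hK, hY⟩ := kd_all hp hg hch hc
  obtain ⟨i, hi, hdi⟩ := hK.exp prim37 ((show 7 ∣ 49 by norm_num).trans h49)
  have hiM := hK.le hi
  have hM : 3 ≤ f₁ * Mg g :=
    (Nat.le_of_dvd (Nat.mul_pos (by omega) (by omega)) hdi).trans (Nat.mul_le_mul_left _ hiM.2)
  have hd1 : c ∣ num (.td4 (2 ^ 1)) := hd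
  by_cases h6 : f₁ * Mg g = 6
  · exfalso
    exact small_names hg hch hf₁ hfl hc (num_two ▸ hd) h49 (Or.inr h6)
  obtain ⟨t, ht⟩ := exists_prim (q := 2) (e := f₁ * Mg g) le_rfl hM (fun h => h6 h.2)
  have htc : t ∣ c := hK.has hY hM ht
  obtain ⟨j, hj, hdj⟩ := (Cfsg.Agent.H325.Same.td_td4 hp le_rfl hd1).exp ht htc
  have hj' : j = 2 ∨ j = 6 ∨ j = 12 := by
    have : j ∈ [2, 6, 12] := hj
    simpa using this
  have h12 : f₁ * Mg g ∣ 12 := by
    rw [one_mul] at hdj
    refine hdj.trans ?_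
    rcases hj' with rfl | rfl | rfl <;> norm_num
  have hcases : f₁ * Mg g = 3 ∨ f₁ * Mg g = 4 ∨ f₁ * Mg g = 12 := by
    have h1 := Nat.le_of_dvd (by norm_num) h12
    generalize f₁ * Mg g = m at *
    interval_cases m <;> simp_all
  rcases hcases with h3 | h3 | h3
  · exfalso
    have h4 := top_all hp hg hch hc hf₁ hfl (s := 7) (k := 2) (by rw [h3]; exact prim37) h49
    rw [h3] at h4
    norm_num at h4
  · exfalso
    exact small_names hg hch hf₁ hfl hc (num_two ▸ hd) h49 (Or.inl h3)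
  · refine Cfsg.Agent.H349.KD4.charp_td4z (p := 2) (f := 1) hp le_rfl hg hch hc hd1 fun u hu => ?_
    exact hK.has hY (by omega) (by rw [h3]; exact hu)

/-- **The identification of the simple group, `q = 2`.** -/
theorem ident_two (tb : OrderTable.{0}) {F : Type} [Field F] [CharP F 2] {S : Type} [Group S] [Finite S]
    [IsSimpleGroup S] (hna : ¬ IsMulCommutative S) (hK : IsKnownSimple' S) (hrep : Fth 8 F S)
    (h49 : 7 ^ 2 ∣ Nat.card S) (hd : Nat.card S ∣ num (.td4 2)) : Nat.card S = num (.td4 2) := by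
  have hna' : ¬ ∀ a b : S, a * b = b * a := fun h => hna ⟨⟨h⟩⟩
  have h7 : Nat.Prime 7 := by norm_num
  obtain ⟨g, hgS⟩ := exists_named tb hK hna'
  rcases Cfsg.Agent.H192.Singer.cases_name hgS.cond with ⟨m, rfl⟩ | hsp | ⟨l, hl, hch⟩
  · exfalso
    obtain ⟨Φ⟩ : Nonempty (S ≃* alternatingGroup (Fin m)) := hgS.real
    have hcard : Nat.card S ∣ m.factorial := by
      rw [Nat.card_congr Φ.toEquiv]
      have h3 := Subgroup.card_subgroup_dvd_card (alternatingGroup (Fin m))
      rwa [Nat.card_perm, Nat.card_fin] at h3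
    have h14 := two_mul_le_of_sq h7 (h49.trans hcard)
    have h5 : 5 ∣ Nat.card S := by
      have h1 : Nontrivial (Fin m) := Fin.nontrivial_iff_two_le.2 (by omega)
      have h2 : 2 * Nat.card S = m.factorial := by
        rw [Nat.card_congr Φ.toEquiv, Nat.card_eq_fintype_card, two_mul_card_alternatingGroup, Fintype.card_perm,
          Fintype.card_fin]
      have h3 : 5 ∣ 2 * Nat.card S := by
        rw [h2]; exact Nat.dvd_factorial (by norm_num) (by omega)
      exact (Nat.Coprime.dvd_of_dvd_mul_left (by norm_num) h3)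
    have h6 := h5.trans hd
    rw [num_two] at h6
    omega
  · exfalso
    have h1 := Cfsg.Agent.H192.Singer.spor_mem hsp
    have h4 : Nat.card S = ordN g := hgS.ord
    have h5 := List.all_eq_true.1 sp49_true _ h1
    rw [h4] at h49 hd
    rw [num_two] at hd
    have h6 : ordN g % 49 = 0 := Nat.mod_eq_zero_of_dvd h49
    have h8 : 211341312 % ordN g = 0 := Nat.mod_eq_zero_of_dvd hd
    simp [h6, h8] at h5
  · by_cases hpl : 2 = l
    · subst hpl
      have h1 := charp_two hgS.cond hch hgS.eq hd h49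
      subst h1
      have h4 := hgS.eq
      rw [show den (.td4 2) = 1 from rfl, one_mul] at h4
      exact h4
    · exfalso
      obtain ⟨X, f₁, h1, h4, -⟩ := exists_lie hl hgS hch
      have hlF : (l : F) ≠ 0 := by
        intro h
        exact hpl ((Nat.prime_dvd_prime_iff_eq Nat.prime_two hl).1 ((CharP.cast_eq_zero_iff F 2 l).1 h))
      have h5 := lb_le hna' (by norm_num) hrep h1 hgS.real h4 hlF
      exact cross_elim h4 h5 h7 le_rfl (by norm_num) h49

end Cfsg.Agent.H92.TD
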