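import Cfsg.Agent.H290.ElWt
import Cfsg.Agent.H563.KG.Wt

/-!
# Weights of a normal 7-subgroup of a linear group of degree 8 in characteristic 2 (helper92, for `³D₄(2)`, S2499)

* `no_wt7` : an element `a` of order 7, conjugate to `a ^ 3`, does not commute with an element of order 4;
* `no_norm7` : no subgroup of order 7 is normalized by elements of orders 8 and 9 (no elements of order 56, 63);
* `cube_comm` : the cube of an element of order 9 centralizes the abelian subgroups it normalizes.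
-/

set_option autoImplicit false

namespace Cfsg.Agent.H92.TD

open Subgroup Module Cfsg.Agent.H912.Bd Cfsg.Agent.H290.ElWt

section Nil

variable {K : Type*} [Field K] {V : Type*} [AddCommGroup V] [Module K V] [FiniteDimensional K V]

/-- a nilpotent endomorphism with `N ^ 2 ≠ 0` on an invariant subspace -/
theorem three_le {N : Module.End K V} {k : ℕ} (hN : N ^ k = 0) {W : Submodule K V} (hW : ∀ w ∈ W, N w ∈ W) {w : V}
    (hw : w ∈ W) (h2 : (N ^ 2) w ≠ 0) : 3 ≤ finrank K W := by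
  by_contra hcon
  have hlt : finrank K W ≤ 2 := by omega
  let M : Module.End K W := N.restrict hW
  have hM : IsNilpotent M := by
    refine ⟨k, ?_⟩
    ext x
    rw [Module.End.pow_restrict, LinearMap.coe_restrict_apply, hN]
    simp
  have h3 : M ^ finrank K W = 0 := by
    have h4 := LinearMap.aeval_self_charpoly M
    rwa [(LinearMap.charpoly_eq_X_pow_iff M).2 (fun m => by
      obtain ⟨j, hj⟩ := hM
      exact ⟨j, by rw [hj]; rfl⟩), Polynomial.aeval_X_pow] at h4
  have h5 : M ^ 2 = 0 := pow_eq_zero_of_le hlt h3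
  apply h2
  have h6 : (M ^ 2) ⟨w, hw⟩ = 0 := by rw [h5]; rfl
  rw [Module.End.pow_restrict] at h6
  exact congrArg Subtype.val h6

end Nil

section Main

variable {F : Type*} [Field F] [CharP F 2] {ι : Type*} [Fintype ι] [DecidableEq ι] {G : Type*} [Group G]

theorem no_wt7 (h8 : Fintype.card ι ≤ 8) {τ : G →* Matrix.GeneralLinearGroup ι F} (hτ : Function.Injective τ)
    {a g v : G} (ha : orderOf a = 7) (hg : g * a * g⁻¹ = a ^ 3) (hv : orderOf v = 4) (hc : v * a = a * v) : False := by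
  have : CharP (AlgebraicClosure F) 2 := charP_of_injective_algebraMap (algebraMap F _).injective 2
  set k := AlgebraicClosure F
  set ρ := cl τ with hρ
  set A : Subgroup G := zpowers a with hAdef
  have hA : ∀ x ∈ A, ∀ y ∈ A, x * y = y * x := by
    intro x hx y hy
    obtain ⟨i, rfl⟩ := mem_zpowers_iff.1 hx
    obtain ⟨j, rfl⟩ := mem_zpowers_iff.1 hy
    rw [← zpow_add, ← zpow_add, add_comm]
  have hN : ((7 : ℕ) : k) ≠ 0 := by
    intro h
    have := (CharP.cast_eq_zero_iff k 2 7).1 h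
    omega
  have hAN : ∀ x ∈ A, x ^ 7 = 1 := by
    intro x hx
    obtain ⟨i, rfl⟩ := mem_zpowers_iff.1 hx
    rw [← zpow_natCast, ← zpow_mul, mul_comm, zpow_mul, zpow_natCast, ← ha, pow_orderOf_eq_one, one_zpow]
  have haA : a ∈ A := mem_zpowers a
  have hn : finrank k (ι → k) ≤ 8 := by simpa using h8
  -- powers of `g`
  have hgj : ∀ j : ℕ, g ^ j * a * (g ^ j)⁻¹ = a ^ (3 ^ j) := by
    intro j
    induction j with
    | zero => simp
    | succ j ih =>
      calc g ^ (j + 1) * a * (g ^ (j + 1))⁻¹ = g * (g ^ j * a * (g ^ j)⁻¹) * g⁻¹ := by rw [pow_succ']; group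
        _ = (g * a * g⁻¹) ^ (3 ^ j) := by rw [ih, conj_pow]
        _ = _ := by rw [hg, ← pow_mul, pow_succ']
  have hgA : ∀ j : ℕ, ∀ x ∈ A, g ^ j * x * (g ^ j)⁻¹ ∈ A := by
    intro j x hx
    obtain ⟨i, rfl⟩ := mem_zpowers_iff.1 hx
    rw [← conj_zpow, hgj]
    exact zpow_mem (pow_mem haA _) _
  -- the twists
  have key : ∀ χ : A → k, wt ρ A χ ≠ ⊥ → χ ⟨a, haA⟩ ≠ 1 →
      ∃ X : Fin 6 → (A → k), Function.Injective X ∧ (∀ j, X j ⟨a, haA⟩ ≠ 1) ∧
        ∀ j, finrank k (wt ρ A χ) ≤ finrank k (wt ρ A (X j)) := by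
    intro χ hχ hχa
    have hpow : ∀ m : ℕ, χ (⟨a, haA⟩ ^ m) = χ ⟨a, haA⟩ ^ m := by
      intro m
      induction m with
      | zero => rw [pow_zero, pow_zero, wt_one ρ hχ]
      | succ m ih => rw [pow_succ, wt_mul ρ hχ, ih, pow_succ]
    have hu7 : χ ⟨a, haA⟩ ^ 7 = 1 := by
      rw [← hpow]
      have : (⟨a, haA⟩ : A) ^ 7 = 1 := Subtype.ext (hAN a haA)
      rw [this, wt_one ρ hχ]
    have hou : orderOf (χ ⟨a, haA⟩) = 7 := by
      have := Fact.mk (show Nat.Prime 7 by norm_num)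
      exact orderOf_eq_prime hu7 hχa
    have hval : ∀ j : ℕ, χ ⟨g ^ j * a * (g ^ j)⁻¹, hgA j a haA⟩ = χ ⟨a, haA⟩ ^ (3 ^ j) := by
      intro j
      rw [← hpow]
      exact congrArg χ (Subtype.ext (hgj j))
    refine ⟨fun j b => χ ⟨g ^ (j : ℕ) * b * (g ^ (j : ℕ))⁻¹, hgA j b b.2⟩, ?_, ?_, ?_⟩
    · intro i j hij
      have h1 := congrFun hij ⟨a, haA⟩
      have h2 : χ ⟨a, haA⟩ ^ (3 ^ (i : ℕ)) = χ ⟨a, haA⟩ ^ (3 ^ (j : ℕ)) := by
        rw [← hval, ← hval]; exact h1
      have hu0 : χ ⟨a, haA⟩ ≠ 0 := by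
        intro h0
        rw [h0] at hu7
        exact absurd hu7 (by norm_num)
      have h2' : (Units.mk0 _ hu0) ^ (3 ^ (i : ℕ)) = (Units.mk0 _ hu0) ^ (3 ^ (j : ℕ)) := Units.ext (by
        rw [Units.val_pow_eq_pow_val, Units.val_pow_eq_pow_val, Units.val_mk0]; exact h2)
      rw [pow_inj_mod, ← orderOf_units, Units.val_mk0, hou] at h2'
      have h3 : ∀ i j : Fin 6, 3 ^ (i : ℕ) % 7 = 3 ^ (j : ℕ) % 7 → i = j := by decide
      exact h3 i j h2'
    · intro j h
      have h2 : χ ⟨a, haA⟩ ^ (3 ^ (j : ℕ)) = 1 := by rw [← hval]; exact h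
      have h3 := orderOf_dvd_of_pow_eq_one h2
      rw [hou] at h3
      have h4 := (show Nat.Prime 7 by norm_num).dvd_of_dvd_pow h3
      omega
    · intro j
      exact finrank_wt_le ρ (s := g ^ (j : ℕ)) (hgA j)
  -- the unipotent element
  set N : Module.End k (ι → k) := ρ v - 1 with hNdef
  have h2z : ∀ X : Module.End k (ι → k), X + X = 0 := by
    intro X
    have h1 : (2 : k) = 0 := by
      have := (CharP.cast_eq_zero_iff k 2 2).2 dvd_rfl
      exact_mod_cast this
    rw [← two_smul k X, h1, zero_smul]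
  have hsq : ∀ X : Module.End k (ι → k), (X - 1) ^ 2 = X ^ 2 - 1 := by
    intro X
    calc (X - 1) ^ 2 = X ^ 2 - (X + X) + 1 := by rw [sq, sq, sub_mul, mul_sub, mul_one, one_mul]; abel
      _ = X ^ 2 - 1 + (1 + 1) := by rw [h2z, sub_zero]; abel
      _ = X ^ 2 - 1 := by rw [h2z, add_zero]
  have hN2 : N ^ 2 = ρ (v ^ 2) - 1 := by
    rw [hNdef, map_pow, hsq]
  have hN4 : N ^ 4 = 0 := by
    have h1 : N ^ 4 = (N ^ 2) ^ 2 := by rw [← pow_mul]
    rw [h1, hN2, hsq, ← map_pow, ← pow_mul]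
    have h4 : v ^ (2 * 2) = 1 := by rw [← pow_orderOf_eq_one v, hv]
    rw [h4, map_one, sub_self]
  have hN2' : N ^ 2 ≠ 0 := by
    intro h
    rw [hN2, sub_eq_zero] at h
    have h1 := cl_injective hτ h
    have h2 := orderOf_dvd_of_pow_eq_one h1
    rw [hv] at h2
    omega
  have hvA : ∀ x ∈ A, v * x = x * v := by
    intro x hx
    obtain ⟨i, rfl⟩ := mem_zpowers_iff.1 hx
    exact ((show Commute v a from hc).zpow_right i).eq
  have hNW : ∀ χ : A → k, ∀ w ∈ wt ρ A χ, N w ∈ wt ρ A χ := by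
    intro χ w hw
    rw [hNdef, LinearMap.sub_apply, Module.End.one_apply]
    exact Submodule.sub_mem _ (map_mem_wt ρ hvA hw) hw
  obtain ⟨χ, w, hw, hw2⟩ : ∃ χ : A → k, ∃ w ∈ wt ρ A χ, (N ^ 2) w ≠ 0 := by
    by_contra hcon
    push Not at hcon
    apply hN2'
    have h1 : (⊤ : Submodule k (ι → k)) ≤ LinearMap.ker (N ^ 2) := by
      rw [← iSup_wt ρ hA hN hAN]
      exact iSup_le fun χ w hw => LinearMap.mem_ker.2 (hcon χ w hw)
    refine LinearMap.ext fun w => ?_
    exact LinearMap.mem_ker.1 (h1 (Submodule.mem_top (x := w)))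
  have h3 := three_le hN4 (hNW χ) hw hw2
  have hχ : wt ρ A χ ≠ ⊥ := by
    intro h
    rw [h, finrank_bot] at h3
    omega
  have hind := indep_wt ρ hA hN hAN
  by_cases hχa : χ ⟨a, haA⟩ = 1
  · -- another weight
    obtain ⟨χ', hχ', hχa'⟩ := exists_wt ρ hA hN hAN (c := ⟨a, haA⟩) (fun h => by
      have h1 := cl_injective hτ h
      have h2 : a = 1 := h1
      rw [h2, orderOf_one] at ha
      omega)
    obtain ⟨X, hX, hXa, hXr⟩ := key χ' hχ' hχa'
    let Y : Option (Fin 6) → (A → k) := fun o => o.elim χ X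
    have hY : Function.Injective Y := by
      intro o o' h
      rcases o with _ | i <;> rcases o' with _ | j
      · rfl
      · exfalso
        apply hXa j
        have h1 : χ = X j := h
        rw [← h1]; exact hχa
      · exfalso
        apply hXa i
        have h1 : X i = χ := h
        rw [h1]; exact hχa
      · exact congrArg some (hX h)
    have h4 : ∑ o, finrank k (wt ρ A (Y o)) ≤ finrank k (ι → k) := sum_finrank_le (hind.comp hY)
    have h5 : ∀ o, (o.elim 3 fun _ : Fin 6 => 1 : ℕ) ≤ finrank k (wt ρ A (Y o)) := by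
      intro o
      rcases o with _ | i
      · exact h3
      · have h6 : 1 ≤ finrank k (wt ρ A χ') := by
          rw [Nat.one_le_iff_ne_zero]
          intro h0
          exact hχ' (Submodule.finrank_eq_zero.1 h0)
        exact h6.trans (hXr i)
    have h6 := Finset.sum_le_sum (s := Finset.univ) fun o _ => h5 o
    have h7 : ∑ o : Option (Fin 6), (o.elim 3 fun _ : Fin 6 => 1 : ℕ) = 9 := by decide
    rw [h7] at h6
    have h8' := (h6.trans h4).trans hn
    omega
  · obtain ⟨X, hX, hXa, hXr⟩ := key χ hχ hχa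
    have h4 : ∑ o, finrank k (wt ρ A (X o)) ≤ finrank k (ι → k) := sum_finrank_le (hind.comp hX)
    have h6 := Finset.sum_le_sum (s := Finset.univ) (f := fun _ : Fin 6 => 3) fun j _ => h3.trans (hXr j)
    have h7 : ∑ _j : Fin 6, 3 = 18 := by decide
    rw [h7] at h6
    have h8' := (h6.trans h4).trans hn
    omega

/-- **The normalizer of a subgroup of order 7.** -/
theorem no_norm7 (h8 : Fintype.card ι ≤ 8) {τ : G →* Matrix.GeneralLinearGroup ι F} (hτ : Function.Injective τ)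
    {a y u : G} (ha : orderOf a = 7) (hy : orderOf y = 9) (hyA : y * a * y⁻¹ ∈ zpowers a) (hu : orderOf u = 8)
    (huA : u * a * u⁻¹ ∈ zpowers a) (h63 : ∀ z : G, orderOf z ≠ 63) (h56 : ∀ z : G, orderOf z ≠ 56) : False := by
  classical
  have key : ∀ z : G, z * a * z⁻¹ ∈ zpowers a → ∃ e : ℕ, e < 7 ∧ z * a * z⁻¹ = a ^ e := by
    intro z hz
    have hf : IsOfFinOrder a := by rw [← orderOf_pos_iff, ha]; norm_num
    rw [← hf.mem_powers_iff_mem_zpowers, hf.mem_powers_iff_mem_range_orderOf, ha] at hz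
    obtain ⟨e, he, hea⟩ := Finset.mem_image.1 hz
    exact ⟨e, Finset.mem_range.1 he, hea.symm⟩
  have hpow : ∀ (z : G) (e : ℕ), z * a * z⁻¹ = a ^ e → ∀ j : ℕ, z ^ j * a * (z ^ j)⁻¹ = a ^ (e ^ j) := by
    intro z e hz j
    induction j with
    | zero => simp
    | succ j ih =>
      calc z ^ (j + 1) * a * (z ^ (j + 1))⁻¹ = z * (z ^ j * a * (z ^ j)⁻¹) * z⁻¹ := by rw [pow_succ']; group
        _ = (z * a * z⁻¹) ^ (e ^ j) := by rw [ih, conj_pow]
        _ = _ := by rw [hz, ← pow_mul, pow_succ']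
  have hmod : ∀ (z : G) (e n : ℕ), z * a * z⁻¹ = a ^ e → orderOf z = n → e ^ n % 7 = 1 := by
    intro z e n hz hn
    have h1 := hpow z e hz n
    rw [← hn, pow_orderOf_eq_one, one_mul, inv_one, mul_one] at h1
    have h2 : a ^ 1 = a ^ (e ^ orderOf z) := by rw [pow_one]; exact h1
    rw [pow_inj_mod, ha] at h2
    rw [← hn]; exact h2.symm
  obtain ⟨e, he, hye⟩ := key y hyA
  obtain ⟨e', he', hue⟩ := key u huA
  have m1 := hmod y e 9 hye hy
  have m2 := hmod u e' 8 hue hu
  have hcy : e ≠ 1 := by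
    rintro rfl
    rw [pow_one, mul_inv_eq_iff_eq_mul] at hye
    have h1 : Commute y a := hye
    refine h63 (y * a) ?_
    rw [h1.orderOf_mul_eq_mul_orderOf_of_coprime (by rw [hy, ha]; norm_num), hy, ha]
  have hcu : e' ≠ 1 := by
    rintro rfl
    rw [pow_one, mul_inv_eq_iff_eq_mul] at hue
    have h1 : Commute u a := hue
    refine h56 (u * a) ?_
    rw [h1.orderOf_mul_eq_mul_orderOf_of_coprime (by rw [hu, ha]; norm_num), hu, ha]
  have he6 : e' = 6 := by interval_cases e' <;> simp_all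
  have he24 : e = 2 ∨ e = 4 := by interval_cases e <;> simp_all
  -- `u ^ 2` has order 4 and commutes with `a`
  have hv : orderOf (u ^ 2) = 4 := by
    rw [orderOf_pow_of_dvd (by norm_num) (by rw [hu]; norm_num), hu]
  have hc : u ^ 2 * a = a * u ^ 2 := by
    have h1 := hpow u e' hue 2
    rw [he6] at h1
    have h2 : a ^ (6 ^ 2) = a := by
      have h3 : a ^ (6 ^ 2) = a ^ 1 := by rw [pow_inj_mod, ha]; norm_num
      rw [h3, pow_one]
    rw [h2, mul_inv_eq_iff_eq_mul] at h1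
    exact h1
  subst he6
  -- the generator
  have hgen : ∃ g : G, g * a * g⁻¹ = a ^ 3 := by
    have h1 : (y * u) * a * (y * u)⁻¹ = a ^ (e * 6) := by
      calc (y * u) * a * (y * u)⁻¹ = y * (u * a * u⁻¹) * y⁻¹ := by group
        _ = (y * a * y⁻¹) ^ 6 := by rw [hue, conj_pow]
        _ = _ := by rw [hye, ← pow_mul]
    rcases he24 with rfl | rfl
    · refine ⟨(y * u) ^ 5, ?_⟩
      rw [hpow _ _ h1 5, pow_inj_mod, ha]; norm_num
    · refine ⟨y * u, ?_⟩
      rw [h1, pow_inj_mod, ha]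
  obtain ⟨g, hg⟩ := hgen
  exact no_wt7 h8 hτ ha hg hv hc

end Main

section Cube

variable {F : Type*} [Field F] {ι : Type*} [Fintype ι] [DecidableEq ι] {G : Type*} [Group G] [Finite G]

/-- **The cube of an element of order 9 centralizes normal abelian subgroups.** -/
theorem cube_comm {p : ℕ} [CharP F p] {τ : G →* Matrix.GeneralLinearGroup ι F} (hτ : Function.Injective τ)
    {A : Subgroup G} [A.Normal] (hA : ∀ a ∈ A, ∀ b ∈ A, a * b = b * a) (hp : ¬ p ∣ Nat.card A) {x : G}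
    (hx : orderOf x = 9) (hlt : Fintype.card ι ≤ 8) {a : G} (ha : a ∈ A) : a * x ^ 3 = x ^ 3 * a := by
  have : CharP (AlgebraicClosure F) p := charP_of_injective_algebraMap (algebraMap F _).injective p
  have hN : ((Nat.card A : ℕ) : AlgebraicClosure F) ≠ 0 := by
    intro h
    exact hp ((CharP.cast_eq_zero_iff (AlgebraicClosure F) p _).1 h)
  have hAN : ∀ a ∈ A, a ^ Nat.card A = 1 := fun a ha => by
    have := pow_card_eq_one' (x := (⟨a, ha⟩ : A))
    exact congrArg Subtype.val this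
  obtain ⟨hfin, hle⟩ := finite_wts (cl τ) hA hN hAN
  have hn : finrank (AlgebraicClosure F) (ι → AlgebraicClosure F) = Fintype.card ι := by simp
  rw [hn] at hle
  have hfix : ∀ χ : Wts (cl τ) A, (x ^ 3)⁻¹ • χ = χ := by
    intro χ
    have h1 : Nat.card (MulAction.orbit (zpowers x) χ) ∣ Nat.card (zpowers x) := by
      rw [Nat.card_coe_set_eq, ← MulAction.index_stabilizer]
      exact Subgroup.index_dvd_card _
    rw [Nat.card_zpowers, hx] at h1
    have h2 : Nat.card (MulAction.orbit (zpowers x) χ) ≤ Nat.card (Wts (cl τ) A) :=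
      Nat.card_le_card_of_injective _ Subtype.val_injective
    -- the stabilizer has index dividing 3
    have h3 : (MulAction.stabilizer (zpowers x) χ).index ∣ 3 := by
      rw [MulAction.index_stabilizer, ← Nat.card_coe_set_eq]
      have h4 : Nat.card (MulAction.orbit (zpowers x) χ) ≤ 8 := by omega
      have h5 : Nat.card (MulAction.orbit (zpowers x) χ) ≠ 0 := by
        intro h0
        rw [h0] at h1
        exact absurd (Nat.eq_zero_of_zero_dvd h1) (by norm_num)
      set m := Nat.card (MulAction.orbit (zpowers x) χ)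
      clear_value m
      have h6 : m = 1 ∨ m = 3 := by
        interval_cases m <;> simp_all
      rcases h6 with h6 | h6 <;> rw [h6]
      exact one_dvd 3
    have hnorm : (MulAction.stabilizer (zpowers x) χ).Normal := by
      refine ⟨fun n hn g => ?_⟩
      have hg : g * n * g⁻¹ = n := by
        rw [mul_inv_eq_iff_eq_mul]
        obtain ⟨g, hg⟩ := g
        obtain ⟨n, hn'⟩ := n
        obtain ⟨i, rfl⟩ := mem_zpowers_iff.1 hg
        obtain ⟨j, rfl⟩ := mem_zpowers_iff.1 hn'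
        apply Subtype.ext
        show x ^ i * x ^ j = x ^ j * x ^ i
        rw [← zpow_add, ← zpow_add, add_comm]
      rw [hg]; exact hn
    have h4 : (⟨x, mem_zpowers x⟩ : zpowers x) ^ 3 ∈ MulAction.stabilizer (zpowers x) χ := by
      obtain ⟨c, hc⟩ := h3
      have h5 := pow_index_mem (MulAction.stabilizer (zpowers x) χ) (⟨x, mem_zpowers x⟩ : zpowers x)
      rw [hc, pow_mul]
      exact pow_mem h5 c
    have h5 := inv_mem h4
    rw [MulAction.mem_stabilizer_iff] at h5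
    exact h5
  have hxa : x ^ 3 * a * (x ^ 3)⁻¹ ∈ A := (inferInstance : A.Normal).conj_mem a ha (x ^ 3)
  have hb : a⁻¹ * (x ^ 3 * a * (x ^ 3)⁻¹) ∈ A := mul_mem (inv_mem ha) hxa
  have key : (⟨a⁻¹ * (x ^ 3 * a * (x ^ 3)⁻¹), hb⟩ : A) = ⟨a, ha⟩⁻¹ * ⟨x ^ 3 * a * (x ^ 3)⁻¹, hxa⟩ := rfl
  have h6 : cl τ (a⁻¹ * (x ^ 3 * a * (x ^ 3)⁻¹)) = 1 := by
    by_contra hne
    obtain ⟨χ, hχ, hχb⟩ := exists_wt (cl τ) hA hN hAN (c := ⟨a⁻¹ * (x ^ 3 * a * (x ^ 3)⁻¹), hb⟩) hne
    apply hχb
    rw [key, wt_mul (cl τ) hχ]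
    have h7 := congrArg Subtype.val (hfix ⟨χ, hχ, ⟨_, hχb⟩⟩)
    have h8 : tw A (x ^ 3)⁻¹ χ = χ := h7
    have h9 := congrFun h8 ⟨a, ha⟩
    have h10 : χ ⟨x ^ 3 * a * (x ^ 3)⁻¹, hxa⟩ = χ ⟨a, ha⟩ := by
      rw [← h9]
      exact congrArg χ (Subtype.ext (by simp))
    rw [h10, ← wt_mul (cl τ) hχ, inv_mul_cancel, wt_one (cl τ) hχ]
  have h11 := cl_injective hτ h6
  have h12 : a = x ^ 3 * a * (x ^ 3)⁻¹ := inv_mul_eq_one.1 h11
  rw [eq_mul_inv_iff_mul_eq] at h12
  exact h12

end Cube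

end Cfsg.Agent.H92.TD
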